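import Groth.Agent.Lib.ProjQuot26.SpecGood
import Groth.Agent.Lib.EGA2.ProjMap
import Mathlib.AlgebraicGeometry.ProjectiveSpectrum.Basic
import Mathlib.RingTheory.Invariant.Basic

/-!
# `Proj` of the invariants is the quotient of `Proj`
-/

universe u

open CategoryTheory AlgebraicGeometry HomogeneousLocalization Polynomial

namespace Groth.Agent.ProjQuot26

variable {R A : Type u} [CommRing R] [CommRing A] [Algebra R A]
  (𝒜 : ℕ → Submodule R A) [GradedAlgebra 𝒜]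

theorem coeff_prod_mem {ι : Type*} (b : ι → A) (n : ℕ) (hb : ∀ i, b i ∈ 𝒜 n) (s : Finset ι) :
    ∀ m ≤ s.card, (∏ i ∈ s, (X - C (b i))).coeff m ∈ 𝒜 ((s.card - m) * n) := by
  classical
  induction s using Finset.induction with
  | empty =>
    intro m hm
    obtain rfl : m = 0 := by simpa using hm
    simpa using SetLike.one_mem_graded 𝒜
  | insert i s hi ih =>
    intro m hm
    rw [Finset.card_insert_of_notMem hi] at hm ⊢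
    rw [Finset.prod_insert hi, sub_mul, coeff_sub, coeff_C_mul]
    have h2 : b i * (∏ j ∈ s, (X - C (b j))).coeff m ∈ 𝒜 ((s.card + 1 - m) * n) := by
      rcases Nat.lt_or_ge s.card m with h | h
      · nontriviality A
        rw [coeff_eq_zero_of_natDegree_lt, mul_zero]
        · exact Submodule.zero_mem _
        · exact lt_of_le_of_lt (le_of_eq (natDegree_finsetProd_X_sub_C_eq_card s b)) h
      · rw [show (s.card + 1 - m) * n = n + (s.card - m) * n by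
          rw [Nat.succ_sub h, Nat.succ_mul, add_comm]]
        exact SetLike.mul_mem_graded (hb i) (ih m h)
    rcases m with _ | m
    · rw [coeff_X_mul_zero]
      exact Submodule.sub_mem _ (Submodule.zero_mem _) h2
    · rw [coeff_X_mul]
      refine Submodule.sub_mem _ ?_ h2
      rw [show s.card + 1 - (m + 1) = s.card - m by omega]
      exact ih m (by omega)

section Data

variable {G : Type u} [Group G] [Finite G] [MulSemiringAction G A]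
  (hGdeg : ∀ (σ : G) (i : ℕ) (a : A), a ∈ 𝒜 i → σ • a ∈ 𝒜 i)
  {C₀ : Type u} [CommRing C₀] [Algebra R C₀] (𝒞 : ℕ → Submodule R C₀) [GradedAlgebra 𝒞]
  (ι : C₀ →ₐ[R] A)
  (hιdeg : ∀ (i : ℕ) (a : A), a ∈ (𝒞 i).map ι.toLinearMap ↔ (a ∈ 𝒜 i ∧ ∀ σ : G, σ • a = a))

include hιdeg in
theorem map_mem {i : ℕ} {c : C₀} (hc : c ∈ 𝒞 i) : ι c ∈ 𝒜 i :=
  ((hιdeg i (ι c)).mp (Submodule.mem_map_of_mem hc)).1

include hιdeg in
theorem smul_map {i : ℕ} {c : C₀} (hc : c ∈ 𝒞 i) (σ : G) : σ • ι c = ι c :=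
  ((hιdeg i (ι c)).mp (Submodule.mem_map_of_mem hc)).2 σ

/-- The inclusion of the invariants as a graded map. -/
def inclGraded : 𝒞 →+*ᵍ 𝒜 where
  toRingHom := ι.toRingHom
  map_mem := map_mem 𝒜 𝒞 ι hιdeg

/-- The action of a group element as a graded map. -/
def actGraded (σ : G) : 𝒜 →+*ᵍ 𝒜 where
  toRingHom := MulSemiringAction.toRingHom G A σ
  map_mem := fun h => hGdeg σ _ _ h

include hGdeg hιdeg in
/-- Some invariant element of positive degree does not vanish at a given point. -/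
theorem exists_mem_basicOpen (x : Proj 𝒜) :
    ∃ (n : ℕ) (c : C₀), 0 < n ∧ c ∈ 𝒞 n ∧ x ∈ Proj.basicOpen 𝒜 (ι c) := by
  cases nonempty_fintype G
  have hx : x ∈ (⊤ : (Proj 𝒜).Opens) := trivial
  rw [← EGA2.iSup_basicOpen_pos 𝒜, TopologicalSpace.Opens.mem_iSup] at hx
  obtain ⟨⟨a, d, hd, ha⟩, hax⟩ := hx
  by_contra hne
  push Not at hne
  rw [Proj.mem_basicOpen] at hax
  have hp : x.asHomogeneousIdeal.toIdeal.IsPrime := x.isPrime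
  refine hax (hp.mem_of_pow_mem (Fintype.card G) ?_)
  have hcoef : ∀ m < Fintype.card G,
      (MulSemiringAction.charpoly G a).coeff m ∈ x.asHomogeneousIdeal.toIdeal := by
    intro m hm
    have h1 := coeff_prod_mem 𝒜 (fun σ : G => σ • a) d (fun σ => hGdeg σ d a ha)
      Finset.univ m (by simpa using hm.le)
    rw [← MulSemiringAction.charpoly_eq, Finset.card_univ] at h1
    obtain ⟨c, hc, hce⟩ := (hιdeg _ _).mpr ⟨h1, fun σ => MulSemiringAction.smul_coeff_charpoly a m σ⟩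
    have := hne ((Fintype.card G - m) * d) c (Nat.mul_pos (by omega) hd) hc
    rw [Proj.mem_basicOpen, not_not] at this
    rw [← hce]
    exact this
  have hdeg : (MulSemiringAction.charpoly G a).natDegree = Fintype.card G := by
    haveI : Nontrivial A := ⟨⟨0, 1, fun e => hp.ne_top ((Ideal.eq_top_iff_one _).mpr
      (e ▸ x.asHomogeneousIdeal.toIdeal.zero_mem))⟩⟩
    rw [MulSemiringAction.charpoly_eq, natDegree_finsetProd_X_sub_C_eq_card, Finset.card_univ]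
  have h0 := MulSemiringAction.eval_charpoly (G := G) a
  rw [eval_eq_sum_range, hdeg, Finset.sum_range_succ, ← hdeg,
    (MulSemiringAction.monic_charpoly G a).coeff_natDegree, one_mul, hdeg] at h0
  rw [← neg_eq_of_add_eq_zero_right h0]
  exact neg_mem (Submodule.sum_mem _ fun m hm =>
    Ideal.mul_mem_right _ _ (hcoef m (Finset.mem_range.mp hm)))

theorem smul_mem_nsmul {n d : ℕ} {f a : A} (hf : f ∈ 𝒜 d) (ha : a ∈ 𝒜 (n • d)) (k : ℕ) :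
    f ^ k * a ∈ 𝒜 ((k + n) • d) := by
  rw [add_nsmul]
  exact SetLike.mul_mem_graded (SetLike.pow_mem_graded _ hf) ha

include hιdeg in
/-- Invariant fractions come from the invariant ring. -/
theorem exists_of_fixed {d : ℕ} {c : C₀} (hc : c ∈ 𝒞 d) (n : ℕ) (a : A) (ha : a ∈ 𝒜 (n • d))
    (hσ : ∀ σ : G, ∃ k, ι c ^ k * (σ • a) = ι c ^ k * a) :
    ∃ b : Away 𝒞 c, Away.map (inclGraded 𝒜 𝒞 ι hιdeg) c b =
      Away.mk 𝒜 (map_mem 𝒜 𝒞 ι hιdeg hc) n a ha := by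
  cases nonempty_fintype G
  choose k hk using hσ
  obtain ⟨M, hM⟩ := (Set.finite_range k).bddAbove
  have hfix : ∀ σ : G, σ • (ι c ^ M * a) = ι c ^ M * a := fun σ => by
    obtain ⟨r, hr⟩ : ∃ r, M = r + k σ := ⟨M - k σ, (Nat.sub_add_cancel (hM ⟨σ, rfl⟩)).symm⟩
    rw [smul_mul', smul_pow', smul_map 𝒜 𝒞 ι hιdeg hc, hr, pow_add, mul_assoc, mul_assoc, hk σ]
  have hfa := smul_mem_nsmul 𝒜 (map_mem 𝒜 𝒞 ι hιdeg hc) ha M
  obtain ⟨e, he, hee⟩ := (hιdeg _ _).mpr ⟨hfa, hfix⟩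
  refine ⟨Away.mk 𝒞 hc (M + n) e he, ?_⟩
  refine (Away.map_mk _ _ hc _ _ he).trans ((EGA2.away_mk_eq_iff 𝒜 _).mpr ⟨0, ?_⟩)
  show _ * (ι c ^ n * ι e) = _ * (ι c ^ (M + n) * a)
  rw [show ι e = ι c ^ M * a from hee]
  ring

/-- Uniqueness data for the map of charts. -/
theorem val_map {ℬ : ℕ → Submodule R A} [GradedAlgebra ℬ] {C' : Type u} [CommRing C'] [Algebra R C']
    {𝒟 : ℕ → Submodule R C'} [GradedAlgebra 𝒟] (φ : 𝒟 →+*ᵍ ℬ) {d : ℕ} {s : C'} (hs : s ∈ 𝒟 d) :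
    (algebraMap (Away ℬ (φ s)) (Localization.Away (φ s))).comp (Away.map φ s) =
      (Localization.awayMap φ.toRingHom s).comp (algebraMap (Away 𝒟 s) (Localization.Away s)) := by
  refine RingHom.ext fun z => ?_
  obtain ⟨n, a, ha, rfl⟩ := Away.mk_surjective 𝒟 hs z
  show (Away.map φ s (Away.mk 𝒟 hs n a ha)).val = Localization.awayMap φ.toRingHom s (Away.mk 𝒟 hs n a ha).val
  rw [Away.map_mk, Away.val_mk, Away.val_mk, Localization.awayMap, IsLocalization.Away.map,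
    Localization.mk_eq_mk', Localization.mk_eq_mk', IsLocalization.map_mk']
  congr 1
  exact Subtype.ext (map_pow φ.toRingHom s n).symm

omit [Finite G] in
/-- Transport of a chart map along an equality of denominators. -/
theorem act_chart {d : ℕ} (hd : 0 < d) (r : Proj 𝒜 ⟶ Proj 𝒜) (s : A → A) {f : A} (hf : f ∈ 𝒜 d)
    (hs : ∀ n a, a ∈ 𝒜 (n • d) → s a ∈ 𝒜 (n • d)) :
    ∀ (f' : A) (hf' : f' ∈ 𝒜 d) (θ : Away 𝒜 f →+* Away 𝒜 f'),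
      (∀ n a (ha : a ∈ 𝒜 (n • d)),
        θ (Away.mk 𝒜 hf n a ha) = Away.mk 𝒜 hf' n (s a) (hs n a ha)) →
      Proj.awayι 𝒜 f' hf' hd ≫ r = Spec.map (CommRingCat.ofHom θ) ≫ Proj.awayι 𝒜 f hf hd →
      f' = f →
      ∃ η : Away 𝒜 f →+* Away 𝒜 f,
        (∀ n a (ha : a ∈ 𝒜 (n • d)),
          η (Away.mk 𝒜 hf n a ha) = Away.mk 𝒜 hf n (s a) (hs n a ha)) ∧
        Proj.awayι 𝒜 f hf hd ≫ r = Spec.map (CommRingCat.ofHom η) ≫ Proj.awayι 𝒜 f hf hd := by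
  intro f' hf' θ hθ hcomm e
  subst e
  exact ⟨θ, hθ, hcomm⟩

variable (ρ : G →* Aut (Proj 𝒜))
    (hρ : ∀ (σ : G) (n : ℕ) (f : A) (hn : 0 < n) (hf : f ∈ 𝒜 n)
      (θ : CommRingCat.of (HomogeneousLocalization.Away 𝒜 f) ⟶ CommRingCat.of (HomogeneousLocalization.Away 𝒜 (σ • f))),
      (algebraMap (HomogeneousLocalization.Away 𝒜 (σ • f)) (Localization.Away (σ • f))).comp θ.hom =
        (Localization.awayMap (MulSemiringAction.toRingHom G A σ) f).comp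
          (algebraMap (HomogeneousLocalization.Away 𝒜 f) (Localization.Away f)) →
      Proj.awayι 𝒜 (σ • f) (hGdeg σ n f hf) hn ≫ (ρ σ).inv = Spec.map θ ≫ Proj.awayι 𝒜 f hf hn)
    (π : Proj 𝒜 ⟶ Proj 𝒞)
    (hπ : ∀ (n : ℕ) (c : C₀) (hn : 0 < n) (hc : c ∈ 𝒞 n)
      (θ : CommRingCat.of (HomogeneousLocalization.Away 𝒞 c) ⟶ CommRingCat.of (HomogeneousLocalization.Away 𝒜 (ι c))),
      (algebraMap (HomogeneousLocalization.Away 𝒜 (ι c)) (Localization.Away (ι c))).comp θ.hom =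
        (Localization.awayMap ι.toRingHom c).comp
          (algebraMap (HomogeneousLocalization.Away 𝒞 c) (Localization.Away c)) →
      Proj.awayι 𝒜 (ι c) ((hιdeg n (ι c)).mp (Submodule.mem_map_of_mem hc)).1 hn ≫ π =
        Spec.map θ ≫ Proj.awayι 𝒞 c hc hn)

/-- The chart map on rings. -/
noncomputable def theta (c : C₀) :
    CommRingCat.of (Away 𝒞 c) ⟶ CommRingCat.of (Away 𝒜 (ι c)) :=
  CommRingCat.ofHom (Away.map (inclGraded 𝒜 𝒞 ι hιdeg) c)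

include hπ in
theorem chart_π {n : ℕ} (hn : 0 < n) {c : C₀} (hc : c ∈ 𝒞 n) :
    Proj.awayι 𝒜 (ι c) (map_mem 𝒜 𝒞 ι hιdeg hc) hn ≫ π =
      Spec.map (theta 𝒜 𝒞 ι hιdeg c) ≫ Proj.awayι 𝒞 c hc hn :=
  hπ n c hn hc _ (val_map (inclGraded 𝒜 𝒞 ι hιdeg) hc)

include hρ in
theorem chart_act {n : ℕ} (hn : 0 < n) {c : C₀} (hc : c ∈ 𝒞 n) (σ : G) :
    ∃ η : Away 𝒜 (ι c) →+* Away 𝒜 (ι c),
      (∀ m a (ha : a ∈ 𝒜 (m • n)), η (Away.mk 𝒜 (map_mem 𝒜 𝒞 ι hιdeg hc) m a ha) =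
        Away.mk 𝒜 (map_mem 𝒜 𝒞 ι hιdeg hc) m (σ • a) (hGdeg σ _ a ha)) ∧
      Proj.awayι 𝒜 (ι c) (map_mem 𝒜 𝒞 ι hιdeg hc) hn ≫ (ρ σ).inv =
        Spec.map (CommRingCat.ofHom η) ≫
          Proj.awayι 𝒜 (ι c) (map_mem 𝒜 𝒞 ι hιdeg hc) hn :=
  act_chart 𝒜 hn (ρ σ).inv (fun a => σ • a) (map_mem 𝒜 𝒞 ι hιdeg hc)
    (fun _ a ha => hGdeg σ _ a ha) (σ • ι c) (hGdeg σ _ _ (map_mem 𝒜 𝒞 ι hιdeg hc))
    (Away.map (actGraded 𝒜 hGdeg σ) (ι c))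
    (fun m a ha => Away.map_mk (actGraded 𝒜 hGdeg σ) _ (map_mem 𝒜 𝒞 ι hιdeg hc) m a ha)
    (hρ σ n (ι c) hn (map_mem 𝒜 𝒞 ι hιdeg hc)
      (CommRingCat.ofHom (Away.map (actGraded 𝒜 hGdeg σ) (ι c)))
      (val_map (actGraded 𝒜 hGdeg σ) (map_mem 𝒜 𝒞 ι hιdeg hc)))
    (smul_map 𝒜 𝒞 ι hιdeg hc σ)

include hGdeg hπ in
theorem preimage_basicOpen {n : ℕ} (hn : 0 < n) {c : C₀} (hc : c ∈ 𝒞 n) :
    π ⁻¹ᵁ Proj.basicOpen 𝒞 c = Proj.basicOpen 𝒜 (ι c) := by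
  ext x
  obtain ⟨m, c', hm, hc', hx⟩ := exists_mem_basicOpen 𝒜 hGdeg 𝒞 ι hιdeg x
  rw [← Proj.opensRange_awayι 𝒜 (ι c') (map_mem 𝒜 𝒞 ι hιdeg hc') hm] at hx
  obtain ⟨y, rfl⟩ := hx
  have key : Proj.awayι 𝒜 (ι c') (map_mem 𝒜 𝒞 ι hιdeg hc') hm ⁻¹ᵁ (π ⁻¹ᵁ Proj.basicOpen 𝒞 c) =
      Proj.awayι 𝒜 (ι c') (map_mem 𝒜 𝒞 ι hιdeg hc') hm ⁻¹ᵁ Proj.basicOpen 𝒜 (ι c) := by
    rw [← Scheme.Hom.comp_preimage, chart_π 𝒜 𝒞 ι hιdeg π hπ hm hc', Scheme.Hom.comp_preimage,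
      Proj.awayι_preimage_basicOpen 𝒞 hc' hm hc hn,
      Proj.awayι_preimage_basicOpen 𝒜 (map_mem 𝒜 𝒞 ι hιdeg hc') hm
        (map_mem 𝒜 𝒞 ι hιdeg hc) hn]
    have he : (theta 𝒜 𝒞 ι hιdeg c').hom (Away.isLocalizationElem hc' hc) =
        Away.isLocalizationElem (map_mem 𝒜 𝒞 ι hιdeg hc') (map_mem 𝒜 𝒞 ι hιdeg hc) := by
      refine HomogeneousLocalization.val_injective _ ?_
      show (Away.map (inclGraded 𝒜 𝒞 ι hιdeg) c' (Away.isLocalizationElem hc' hc)).val = _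
      rw [Away.map_mk, Away.val_mk, Away.val_mk]
      congr 1
      exact map_pow ι c m
    refine TopologicalSpace.Opens.ext (Set.ext fun z => ?_)
    show (theta 𝒜 𝒞 ι hιdeg c').hom (Away.isLocalizationElem hc' hc) ∉ z.asIdeal ↔
      Away.isLocalizationElem (map_mem 𝒜 𝒞 ι hιdeg hc') (map_mem 𝒜 𝒞 ι hιdeg hc) ∉ z.asIdeal
    rw [he]
  exact SetLike.ext_iff.mp key y

include hρ hπ in
theorem chart_inv {n : ℕ} (hn : 0 < n) {c : C₀} (hc : c ∈ 𝒞 n) (σ : G) :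
    Proj.awayι 𝒜 (ι c) (map_mem 𝒜 𝒞 ι hιdeg hc) hn ≫ (ρ σ).inv ≫ π =
      Proj.awayι 𝒜 (ι c) (map_mem 𝒜 𝒞 ι hιdeg hc) hn ≫ π := by
  obtain ⟨η, hη, hcomm⟩ := chart_act 𝒜 hGdeg 𝒞 ι hιdeg ρ hρ hn hc σ
  rw [reassoc_of% hcomm, chart_π 𝒜 𝒞 ι hιdeg π hπ hn hc, ← Category.assoc, ← Spec.map_comp]
  congr 2
  refine CommRingCat.hom_ext (RingHom.ext fun z => ?_)
  obtain ⟨m, a, ha, rfl⟩ := Away.mk_surjective 𝒞 hc z
  have h1 : Away.map (inclGraded 𝒜 𝒞 ι hιdeg) c (Away.mk 𝒞 hc m a ha) =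
      Away.mk 𝒜 (map_mem 𝒜 𝒞 ι hιdeg hc) m (ι a) (map_mem 𝒜 𝒞 ι hιdeg ha) :=
    Away.map_mk (inclGraded 𝒜 𝒞 ι hιdeg) c hc m a ha
  show η (Away.map (inclGraded 𝒜 𝒞 ι hιdeg) c (Away.mk 𝒞 hc m a ha)) =
    Away.map (inclGraded 𝒜 𝒞 ι hιdeg) c (Away.mk 𝒞 hc m a ha)
  rw [h1, hη]
  simp only [smul_map 𝒜 𝒞 ι hιdeg ha]

include hGdeg hρ hπ in
theorem inv_π (σ : G) : (ρ σ).inv ≫ π = π := by
  have hcov : TopologicalSpace.IsOpenCover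
      (fun i : {c : ℕ × C₀ // 0 < c.1 ∧ c.2 ∈ 𝒞 c.1} => Proj.basicOpen 𝒜 (ι i.1.2)) :=
    TopologicalSpace.Opens.ext (Set.eq_univ_of_forall fun x => by
      obtain ⟨n, c, hn, hc, hx⟩ := exists_mem_basicOpen 𝒜 hGdeg 𝒞 ι hιdeg x
      exact TopologicalSpace.Opens.mem_iSup.mpr ⟨⟨(n, c), hn, hc⟩, hx⟩)
  refine Scheme.Cover.hom_ext ((Proj 𝒜).openCoverOfIsOpenCover _ hcov) _ _ fun i => ?_
  obtain ⟨⟨n, c⟩, hn, hc⟩ := i
  show (Proj.basicOpen 𝒜 (ι c)).ι ≫ (ρ σ).inv ≫ π = (Proj.basicOpen 𝒜 (ι c)).ι ≫ π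
  rw [← cancel_epi (Proj.basicOpenIsoSpec 𝒜 (ι c) (map_mem 𝒜 𝒞 ι hιdeg hc) hn).inv,
    Proj.basicOpenIsoSpec_inv_ι_assoc, Proj.basicOpenIsoSpec_inv_ι_assoc]
  exact chart_inv 𝒜 hGdeg 𝒞 ι hιdeg ρ hρ π hπ hn hc σ

include hGdeg hρ hπ in
theorem isQuot (hι : Function.Injective ι) : SGA1.IsQuot ρ π := by
  have hinv' : ∀ σ : G, (ρ σ).inv ≫ π = π := inv_π 𝒜 hGdeg 𝒞 ι hιdeg ρ hρ π hπ
  have hinv : ∀ σ : G, (ρ σ).hom ≫ π = π := fun σ => by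
    conv_lhs => rw [← hinv' σ]
    exact Iso.hom_inv_id_assoc (ρ σ) π
  have haff : IsAffineHom π := by
    refine isAffineHom_of_forall_exists_isAffineOpen π fun y => ?_
    have hy : y ∈ (⊤ : (Proj 𝒞).Opens) := trivial
    rw [← EGA2.iSup_basicOpen_pos 𝒞, TopologicalSpace.Opens.mem_iSup] at hy
    obtain ⟨⟨c, n, hn, hc⟩, hy⟩ := hy
    exact ⟨_, hy, Proj.isAffineOpen_basicOpen 𝒞 c hc hn,
      preimage_basicOpen 𝒜 hGdeg 𝒞 ι hιdeg π hπ hn hc ▸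
        Proj.isAffineOpen_basicOpen 𝒜 (ι c) (map_mem 𝒜 𝒞 ι hιdeg hc) hn⟩
  refine IsQuot25.of_affineCover haff hinv fun y => ?_
  have hy : y ∈ (⊤ : (Proj 𝒞).Opens) := trivial
  rw [← EGA2.iSup_basicOpen_pos 𝒞, TopologicalSpace.Opens.mem_iSup] at hy
  obtain ⟨⟨c, n, hn, hc⟩, hy⟩ := hy
  refine ⟨_, Proj.isAffineOpen_basicOpen 𝒞 c hc hn, hy, ?_⟩
  choose η hη hcomm using fun σ => chart_act 𝒜 hGdeg 𝒞 ι hιdeg ρ hρ hn hc σ⁻¹
  refine goodAt_of_spec hinv (Proj.awayι 𝒜 (ι c) (map_mem 𝒜 𝒞 ι hιdeg hc) hn)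
    (Proj.awayι 𝒞 c hc hn)
    ((Proj.opensRange_awayι ..).trans (preimage_basicOpen 𝒜 hGdeg 𝒞 ι hιdeg π hπ hn hc).symm)
    (Proj.opensRange_awayι ..) (theta 𝒜 𝒞 ι hιdeg c) (chart_π 𝒜 𝒞 ι hιdeg π hπ hn hc)
    (fun σ => CommRingCat.ofHom (η σ)) (fun σ => ?_) ?_ fun b hb => ?_
  · rw [← hcomm σ, map_inv]
    rfl
  · exact EGA2.away_map_injective (inclGraded 𝒜 𝒞 ι hιdeg) (fun k _ => hι.injOn) hn hc
  · obtain ⟨m, a, ha, rfl⟩ := Away.mk_surjective 𝒜 (map_mem 𝒜 𝒞 ι hιdeg hc) b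
    refine exists_of_fixed 𝒜 𝒞 ι hιdeg hc m a ha fun σ => ?_
    have := hb σ⁻¹
    change η σ⁻¹ (Away.mk 𝒜 (map_mem 𝒜 𝒞 ι hιdeg hc) m a ha) = _ at this
    simp only [hη, inv_inv, EGA2.away_mk_eq_iff] at this
    obtain ⟨k, hk⟩ := this
    exact ⟨k + m, by rw [pow_add, mul_assoc, mul_assoc]; exact hk⟩

end Data

end Groth.Agent.ProjQuot26
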