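import Groth.Agent.Lib.IsQuot25.Local

/-!
# The quotient conditions over an affine chart given by ring maps
-/

universe u

open CategoryTheory AlgebraicGeometry TopologicalSpace

namespace Groth.Agent.ProjQuot26

open IsQuot25

variable {X Y : Scheme.{u}} {G : Type u} [Group G] {ρ : G →* Aut X} {p : X ⟶ Y}

/-- Sections over the range of a chart. -/
noncomputable def chartHom {B : CommRingCat.{u}} (j : Spec B ⟶ X) (U : X.Opens)
    (h : ⊤ ≤ j ⁻¹ᵁ U) : Γ(X, U) ⟶ B :=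
  j.appLE U ⊤ h ≫ (Scheme.ΓSpecIso B).hom

theorem chartHom_natural {B C : CommRingCat.{u}} (jX : Spec B ⟶ X) (jY : Spec C ⟶ Y) (f : X ⟶ Y)
    (θ : C ⟶ B) (sq : jX ≫ f = Spec.map θ ≫ jY) (U : Y.Opens) (V : X.Opens) (hVU : V ≤ f ⁻¹ᵁ U)
    (hV : ⊤ ≤ jX ⁻¹ᵁ V) (hU : ⊤ ≤ jY ⁻¹ᵁ U) :
    f.appLE U V hVU ≫ chartHom jX V hV = chartHom jY U hU ≫ θ := by
  rw [chartHom, chartHom, Scheme.Hom.appLE_comp_appLE_assoc, IsQuot25.appLE_eq sq,
    ← Scheme.Hom.appLE_comp_appLE (Spec.map θ) jY U ⊤ ⊤ hU le_top, Category.assoc, Category.assoc]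
  congr 1
  rw [show (Spec.map θ).appLE ⊤ ⊤ le_top = (Spec.map θ).appTop from (Spec.map θ).app_eq_appLE.symm]
  exact Scheme.ΓSpecIso_naturality θ

theorem isIso_chartHom {B : CommRingCat.{u}} (j : Spec B ⟶ X) [IsOpenImmersion j] (U : X.Opens)
    (h : j.opensRange = U) (hU : ⊤ ≤ j ⁻¹ᵁ U) : IsIso (chartHom j U hU) := by
  have e : j ⁻¹ᵁ U = ⊤ := top_le_iff.mp hU
  haveI : IsIso (j.app U) := j.isIso_app U h.ge
  haveI : IsIso (j.appLE U ⊤ hU) := by
    have : IsIso ((Spec B).presheaf.map (homOfLE hU).op) := by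
      rw [show (homOfLE hU) = eqToHom e.symm from Subsingleton.elim _ _, eqToHom_op, eqToHom_map]
      infer_instance
    rw [Scheme.Hom.appLE]
    infer_instance
  unfold chartHom
  infer_instance

/-- The quotient conditions over the range of an affine chart. -/
theorem goodAt_of_spec (hinv : ∀ g : G, (ρ g).hom ≫ p = p) {U : Y.Opens} {B C : CommRingCat.{u}}
    (jX : Spec B ⟶ X) [IsOpenImmersion jX] (jY : Spec C ⟶ Y) [IsOpenImmersion jY]
    (hX : jX.opensRange = p ⁻¹ᵁ U) (hY : jY.opensRange = U) (θ : C ⟶ B)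
    (sq : jX ≫ p = Spec.map θ ≫ jY) (η : G → (B ⟶ B))
    (hη : ∀ g, jX ≫ (ρ g).hom = Spec.map (η g) ≫ jX)
    (hinj : Function.Injective θ) (hfix : ∀ b, (∀ g, η g b = b) → b ∈ Set.range θ) :
    GoodAt hinv U := by
  have hV : ⊤ ≤ jX ⁻¹ᵁ (p ⁻¹ᵁ U) := fun x _ => hX.le ⟨x, rfl⟩
  have hU : ⊤ ≤ jY ⁻¹ᵁ U := fun x _ => hY.le ⟨x, rfl⟩
  haveI := isIso_chartHom jX (p ⁻¹ᵁ U) hX hV
  haveI := isIso_chartHom jY U hY hU
  let a := chartHom jX (p ⁻¹ᵁ U) hV
  let b := chartHom jY U hU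
  have hab : p.app U ≫ a = b ≫ θ := by
    rw [p.app_eq_appLE]
    exact chartHom_natural jX jY p θ sq U _ le_rfl hV hU
  have hact : ∀ g, actHom hinv U g ≫ a = a ≫ η g := fun g =>
    chartHom_natural jX jX (ρ g).hom (η g) (hη g) _ _ _ hV hV
  have ainj : Function.Injective a := (ConcreteCategory.bijective_of_isIso a).1
  have binj : Function.Injective b := (ConcreteCategory.bijective_of_isIso b).1
  constructor
  · intro x y h
    exact binj (hinj (congr($hab x).symm.trans ((congrArg a h).trans congr($hab y))))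
  · intro s hs
    obtain ⟨c, hc⟩ := hfix (a s) fun g => congr($(hact g) s).symm.trans (congrArg a (hs g))
    obtain ⟨t, rfl⟩ := (ConcreteCategory.bijective_of_isIso b).2 c
    exact ⟨t, ainj (congr($hab t).trans hc)⟩

end Groth.Agent.ProjQuot26
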